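import Cfsg.Agent.Cores.Basic
import Cfsg.Agent.PSolv.HallHigman
import Cfsg.Agent.Signalizer.Generation
import Mathlib.GroupTheory.SchurZassenhaus

/-!
# Groups whose subgroups of order prime to `p` are abelian: basic lemmas
-/

set_option autoImplicit false

namespace Cfsg.Agent.PPrimeAbelian

open Subgroup

variable {G : Type*} [Group G] {p : ℕ}

/-- Every subgroup of order prime to `p` is abelian of exponent dividing `p - 1`. -/
def Hyp (p : ℕ) (G : Type*) [Group G] : Prop :=
  ∀ H : Subgroup G, (Nat.card H).Coprime p → IsMulCommutative H ∧ ∀ x ∈ H, x ^ (p - 1) = 1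

theorem Hyp.subgroup (h : Hyp p G) (K : Subgroup G) : Hyp p K := by
  intro H hH
  have hc : Nat.card (H.map K.subtype) = Nat.card H := card_map_of_injective K.subtype_injective
  obtain ⟨hab, he⟩ := h (H.map K.subtype) (hc ▸ hH)
  refine ⟨⟨⟨fun a b => Subtype.ext (Subtype.ext ?_)⟩⟩, fun x hx => Subtype.ext ?_⟩
  · simpa using congrArg Subtype.val (hab.is_comm.comm ⟨_, mem_map_of_mem K.subtype a.2⟩
      ⟨_, mem_map_of_mem K.subtype b.2⟩)
  · simpa using he _ (mem_map_of_mem K.subtype hx)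

/-- A subgroup of a quotient of order prime to `p` is covered by one of order prime to `p`. -/
theorem Hyp.quotient [Finite G] [Fact p.Prime] (h : Hyp p G) (N : Subgroup G) [N.Normal] :
    Hyp p (G ⧸ N) := by
  intro Hb hHb
  set π := QuotientGroup.mk' N with hπ
  set K := Hb.comap π with hK
  haveI hNK : (N.subgroupOf K).Normal := inferInstance
  let Q : Sylow p (N.subgroupOf K) := default
  -- its image is a Sylow subgroup of the preimage
  have htop := Q.normalizer_sup_eq_top
  set M := normalizer ((Q : Subgroup (N.subgroupOf K)).map (N.subgroupOf K).subtype : Set K)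
  set P0 := (Q : Subgroup (N.subgroupOf K)).map (N.subgroupOf K).subtype with hP0
  haveI : (P0.subgroupOf M).Normal := normal_subgroupOf_of_le_normalizer le_rfl
  have hnd : ¬ p ∣ (P0.subgroupOf M).index := fun hd => by
    have h2 := hd.trans (Subgroup.relIndex_dvd_index_of_le le_normalizer :
      (P0.subgroupOf M).index ∣ P0.index)
    rw [hP0, index_map_subtype] at h2
    rcases (Fact.out : p.Prime).dvd_mul.1 h2 with h3 | h3
    · exact Q.not_dvd_index h3
    · have h5 : (N.subgroupOf K).index = ((⊥ : Subgroup (G ⧸ N)).comap π).relIndex K := by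
        rw [MonoidHom.comap_bot, QuotientGroup.ker_mk']
        rfl
      rw [h5, hK, relIndex_comap, map_comap_eq_self_of_surjective
        (QuotientGroup.mk'_surjective N), relIndex_bot_left] at h3
      exact (Fact.out : p.Prime).coprime_iff_not_dvd.1 hHb.symm h3
  have hidx : (Nat.card (P0.subgroupOf M)).Coprime (P0.subgroupOf M).index := by
    obtain ⟨k, hk⟩ := IsPGroup.iff_card.1 (Q.2.map (N.subgroupOf K).subtype)
    rw [Nat.card_congr (subgroupOfEquivOfLe (le_normalizer : P0 ≤ M)).toEquiv, hP0, hk]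
    exact Nat.Coprime.pow_left _ ((Fact.out : p.Prime).coprime_iff_not_dvd.2 hnd)
  obtain ⟨L, hL⟩ := exists_right_complement'_of_coprime hidx
  set L' := (L.map M.subtype).map K.subtype with hL'
  have hLcard : (Nat.card L').Coprime p := by
    rw [hL', card_map_of_injective K.subtype_injective, card_map_of_injective M.subtype_injective]
    rw [← hL.symm.index_eq_card]
    exact ((Fact.out : p.Prime).coprime_iff_not_dvd.2 hnd).symm
  have hmap : Hb ≤ L'.map π := by
    intro x hx
    obtain ⟨g, rfl⟩ := QuotientGroup.mk'_surjective N x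
    have hg : (⟨g, hx⟩ : K) ∈ M ⊔ N.subgroupOf K := htop ▸ mem_top _
    obtain ⟨m, hm, n, hn, hmn⟩ := Subgroup.mem_sup_of_normal_right.1 hg
    obtain ⟨⟨a, b⟩, hab⟩ := hL.2 ⟨m, hm⟩
    have ha : ((a : M) : K) ∈ N.subgroupOf K :=
      Subgroup.map_subtype_le _ (show ((a : M) : K) ∈ P0 from a.2)
    refine ⟨((b : M) : K), ⟨_, ⟨_, b.2, rfl⟩, rfl⟩, ?_⟩
    have hg' : g = ((a : M) : K) * ((b : M) : K) * (n : K) := by
      have e1 : (a : M) * (b : M) = ⟨m, hm⟩ := hab
      have e2 : ((a : M) : K) * ((b : M) : K) = m := congrArg Subtype.val e1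
      have e3 := congrArg Subtype.val hmn
      rw [← e2] at e3
      simpa using e3.symm
    have ha1 : π (((a : M) : K) : G) = 1 := (QuotientGroup.eq_one_iff _).2 ha
    have hn1 : π (n : G) = 1 := (QuotientGroup.eq_one_iff _).2 hn
    rw [hg', map_mul, map_mul, ha1, hn1, one_mul, mul_one]
  obtain ⟨hab, he⟩ := h L' hLcard
  refine ⟨⟨⟨fun x y => Subtype.ext ?_⟩⟩, fun x hx => ?_⟩
  · obtain ⟨a, ha, hax⟩ := hmap x.2
    obtain ⟨b, hb, hby⟩ := hmap y.2
    show (x : G ⧸ N) * y = y * x
    rw [← hax, ← hby, ← map_mul, ← map_mul]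
    exact congrArg π (congrArg Subtype.val (hab.is_comm.comm ⟨a, ha⟩ ⟨b, hb⟩))
  · obtain ⟨a, ha, rfl⟩ := hmap hx
    rw [← map_pow, he a ha, map_one]

theorem Hyp.commute (h : Hyp p G) {H : Subgroup G} (hH : (Nat.card H).Coprime p) {x y : G}
    (hx : x ∈ H) (hy : y ∈ H) : Commute x y :=
  congrArg Subtype.val ((h H hH).1.is_comm.comm ⟨x, hx⟩ ⟨y, hy⟩)

theorem Hyp.dvd_sub_one [Finite G] (h : Hyp p G) (hp : p.Prime) {q : ℕ} (hq : q.Prime)
    (hqG : q ∣ Nat.card G) : q = p ∨ q ∣ p - 1 := by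
  haveI : Fact q.Prime := ⟨hq⟩
  obtain ⟨x, hx⟩ := exists_prime_orderOf_dvd_card' q hqG
  by_cases hqp : q = p
  · exact Or.inl hqp
  right
  have hc : (Nat.card (zpowers x)).Coprime p := by
    rw [Nat.card_zpowers, hx]
    exact (Nat.coprime_primes hq hp).2 hqp
  exact hx ▸ orderOf_dvd_of_pow_eq_one ((h _ hc).2 x (mem_zpowers x))

/-- An odd-order subgroup normalised by an abelian Sylow `2`-subgroup of a solvable group lies in
the core, and the core with that Sylow subgroup is normal. -/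
theorem oddCore_abelianSylow [Finite G] [Group.IsSolvable G] (T : Sylow 2 G)
    (hT : IsMulCommutative T) :
    (Cfsg.pPrimeCore 2 G ⊔ (T : Subgroup G)).Normal ∧
      ∀ U : Subgroup G, Odd (Nat.card U) → (T : Subgroup G) ≤ normalizer (U : Set G) →
        U ≤ Cfsg.pPrimeCore 2 G := by
  set O := Cfsg.pPrimeCore 2 G with hO
  set π := QuotientGroup.mk' O with hπ
  have hsurj : Function.Surjective π := QuotientGroup.mk'_surjective O
  let Tb : Sylow 2 (G ⧸ O) := T.mapSurjective hsurj
  set F := Cfsg.pCore 2 (G ⧸ O) with hF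
  have hFc : centralizer (F : Set (G ⧸ O)) ≤ F :=
    PSolv.centralizer_pCore_le (PSolv.isPSolvable_quotient
      (PSolv.isPSolvable_of_isSolvable inferInstance) _) Cores.pPrimeCore_quotient_pPrimeCore_eq_bot
  have hTb : (Tb : Subgroup (G ⧸ O)) = (T : Subgroup G).map π := rfl
  have hFT : (T : Subgroup G).map π = F := by
    refine le_antisymm ?_ (Cores.pCore_le_sylow Tb)
    refine le_trans ?_ hFc
    rintro _ ⟨t, ht, rfl⟩
    refine mem_centralizer_iff.2 fun f hf => ?_
    obtain ⟨s, hs, rfl⟩ := (hTb ▸ Cores.pCore_le_sylow Tb hf : f ∈ (T : Subgroup G).map π)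
    rw [← map_mul, ← map_mul]
    exact congrArg π (congrArg Subtype.val (hT.is_comm.comm ⟨s, hs⟩ ⟨t, ht⟩))
  refine ⟨?_, fun U hU hn => ?_⟩
  · have h1 : ((T : Subgroup G).map π).Normal := by
      rw [hFT, hF]
      infer_instance
    have h2 := h1.comap π
    rwa [comap_map_eq, QuotientGroup.ker_mk', sup_comm] at h2
  · have h1 : Disjoint (U.map π) F := by
      refine disjoint_iff.2 (disjoint_iff.1 (Subgroup.disjoint_of_coprime_natCard ?_))
      obtain ⟨k, hk⟩ := IsPGroup.iff_card.1 (Cores.pCore_isPGroup (p := 2) (G := G ⧸ O))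
      rw [hF, hk]
      exact Nat.Coprime.pow_right _ ((Nat.coprime_two_right.2 hU).coprime_dvd_left (card_map_dvd _ _))
    have h2 : U.map π ≤ centralizer (F : Set (G ⧸ O)) := by
      rintro _ ⟨u, hu, rfl⟩
      refine mem_centralizer_iff.2 fun f hf => ?_
      rw [← hFT] at hf
      obtain ⟨t, ht, rfl⟩ := hf
      have hm : π (t * u * t⁻¹ * u⁻¹) ∈ U.map π ⊓ F := by
        refine ⟨mem_map_of_mem π (U.mul_mem (le_normalizer_iff.1 hn t ht u hu) (U.inv_mem hu)), ?_⟩
        have hmem : π t ∈ F := hFT ▸ mem_map_of_mem π ht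
        have hmem' := (Cores.pCore_normal_inst (p := 2) (G ⧸ O)).conj_mem _ (inv_mem hmem) (π u)
        have := F.mul_mem hmem hmem'
        rw [map_mul, map_mul, map_mul, map_inv, map_inv]
        rwa [show π t * π u * (π t)⁻¹ * (π u)⁻¹ = π t * (π u * (π t)⁻¹ * (π u)⁻¹) by group]
      rw [disjoint_iff.1 h1, mem_bot, map_mul, map_mul, map_mul, map_inv, map_inv] at hm
      calc π t * π u = (π t * π u * (π t)⁻¹ * (π u)⁻¹) * (π u * π t) := by group
        _ = π u * π t := by rw [hm, one_mul]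
    have h3 : U.map π = ⊥ := le_bot_iff.1 (h1 le_rfl (h2.trans hFc))
    rwa [Subgroup.map_eq_bot_iff, QuotientGroup.ker_mk'] at h3

end Cfsg.Agent.PPrimeAbelian
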