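import Cfsg.Agent.Signalizer.Generation
import Cfsg.Agent.Cores.Basic
import Cfsg.Agent.Coprime.Conj
import Cfsg.Agent.Coprime.Generation

/-!
If a `2`-group `A` acts on a solvable group `Y` of odd order and centralises every invariant
`r`-subgroup for `r ≠ p`, then `[Y, A]` is a `p`-group.
-/

set_option autoImplicit false
set_option linter.style.haveILetI false

namespace Cfsg.Agent.PPrimeAbelian

open Subgroup
open scoped commutatorElement

universe u

variable {p : ℕ}

/-- The action hypothesis. -/
def Centralizes {H : Type u} [Group H] (p : ℕ) (Y A : Subgroup H) : Prop :=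
  ∀ r : ℕ, r.Prime → r ≠ p → ∀ R ≤ Y, IsPGroup r R → A ≤ normalizer (R : Set H) →
    R ≤ centralizer (A : Set H)

theorem isPGroup_commutator_aux [Fact p.Prime] : ∀ (n : ℕ) (H : Type u) [Group H] [Finite H]
    (Y A : Subgroup H), Nat.card Y ≤ n → IsPGroup 2 A → A ≤ normalizer (Y : Set H) →
    Odd (Nat.card Y) → Group.IsSolvable Y → Centralizes p Y A → IsPGroup p ↥⁅Y, A⁆ := by
  intro n
  induction n using Nat.strong_induction_on with
  | _ n ih =>
  intro H _ _ Y A hn hA hAY hodd hsol hc
  haveI : Fact (Nat.Prime 2) := ⟨Nat.prime_two⟩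
  have h2 : ¬ 2 ∣ Nat.card Y := fun h => Nat.not_even_iff_odd.2 hodd (even_iff_two_dvd.2 h)
  set Z := ⁅Y, A⁆ with hZ
  have hZY : Z ≤ Y := Signalizer.commutator_le_self hAY
  rcases lt_or_eq_of_le hZY with hlt | heq
  · have hZA : A ≤ normalizer (Z : Set H) := normalizer_commutator_ge_right _ _
    have hZZ : ⁅Z, A⁆ = Z := Signalizer.commutator_commutator_eq hA hAY h2
    have hlt' : Nat.card Z < Nat.card Y := lt_of_le_of_ne
      (Nat.le_of_dvd Nat.card_pos (card_dvd_of_le hZY))
      fun he => hlt.ne (eq_of_le_of_card_ge hZY he.ge)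
    have h3 := ih _ (lt_of_lt_of_le hlt' hn) H Z A le_rfl hA hZA
      (hodd.of_dvd_nat (card_dvd_of_le hZY))
      (haveI := hsol; Group.isSolvable_of_isSolvable_injective (inclusion_injective hZY))
      (fun r hr hrp R hR => hc r hr hrp R (hR.trans hZY))
    rwa [hZZ] at h3
  · by_cases hY : Y = ⊥
    · exact IsPGroup.of_bot.to_le (hZY.trans hY.le)
    haveI := hsol
    haveI : Nontrivial Y := (nontrivial_iff_ne_bot Y).2 hY
    obtain ⟨r, N, hr, hN, hNr, hN1, -⟩ := Coprime.exists_normal_pGroup_of_isSolvable Y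
    haveI : Fact r.Prime := ⟨hr⟩
    set R0 := Cfsg.pCore r Y with hR0
    have hR0ne : R0 ≠ ⊥ := fun h => hN1 (le_bot_iff.1 (h ▸ Cores.le_pCore hN hNr))
    set R := R0.map Y.subtype with hR
    have hRY : R ≤ Y := map_subtype_le _
    have hRA : A ≤ normalizer (R : Set H) :=
      hAY.trans (Coprime.normalizer_le_normalizer_map_characteristic Y R0)
    have hYR : Y ≤ normalizer (R : Set H) :=
      le_normalizer.trans (Coprime.normalizer_le_normalizer_map_characteristic Y R0)
    have hRr : IsPGroup r R := (Cores.pCore_isPGroup).map _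
    set L := normalizer (R : Set H) with hL
    set π := QuotientGroup.mk' (R.subgroupOf L) with hπ
    set Yb := (Y.subgroupOf L).map π with hYb
    set Ab := (A.subgroupOf L).map π with hAb
    have hYLc : Nat.card (Y.subgroupOf L) = Nat.card Y :=
      Nat.card_congr (subgroupOfEquivOfLe hYR).toEquiv
    have hdvd : Nat.card Yb ∣ Nat.card Y := hYLc ▸ card_map_dvd _ _
    have hlt' : Nat.card Yb < Nat.card Y := by
      refine lt_of_le_of_ne (Nat.le_of_dvd Nat.card_pos hdvd) fun he => ?_
      have hinj : Function.Injective (π.subgroupMap (Y.subgroupOf L)) :=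
        ((Nat.bijective_iff_surjective_and_card _).2
          ⟨π.subgroupMap_surjective _, by rw [hYLc]; exact he.symm⟩).1
      refine hR0ne ((map_eq_bot_iff_of_injective _ Y.subtype_injective).1
        ((eq_bot_iff_forall _).2 fun x hx => ?_))
      have hxL : x ∈ L := le_normalizer hx
      have h1 : π.subgroupMap (Y.subgroupOf L) ⟨⟨x, hxL⟩, hRY hx⟩ = 1 :=
        Subtype.ext ((QuotientGroup.eq_one_iff _).2 hx)
      exact congrArg (fun z : Y.subgroupOf L => ((z : L) : H)) (hinj (h1.trans (map_one _).symm))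
    have hAn : Ab ≤ normalizer (Yb : Set _) := by
      refine (map_mono ?_).trans (le_normalizer_map π)
      rw [← subgroupOf_normalizer_eq hYR]
      exact fun x hx => hAY hx
    have hsolb : Group.IsSolvable Yb := by
      haveI : Group.IsSolvable (Y.subgroupOf L) :=
        Group.isSolvable_of_isSolvable_injective (f := (subgroupOfEquivOfLe hYR).toMonoidHom)
          (MulEquiv.injective _)
      exact Group.isSolvable_of_surjective (π.subgroupMap_surjective _)
    have hAb2 : IsPGroup 2 Ab := (hA.comap_subtype (K := L)).map _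
    have hcb : Centralizes p Yb Ab := by
      intro q hq hqp Qb hQb hQbq hQbA
      haveI : Fact q.Prime := ⟨hq⟩
      set P := ((Qb.comap π) ⊓ Y.subgroupOf L).map L.subtype with hP
      have hPY : P ≤ Y := by
        rintro _ ⟨x, hx, rfl⟩
        exact hx.2
      have hPA : A ≤ normalizer (P : Set H) := by
        intro a ha
        have haL : (⟨a, hRA ha⟩ : L) ∈ normalizer ((Qb.comap π ⊓ Y.subgroupOf L : Subgroup L) : Set L) := by
          refine inf_normalizer_le_normalizer_inf ⟨?_, ?_⟩
          · exact le_normalizer_comap π (hQbA (mem_map_of_mem π (show (⟨a, hRA ha⟩ : L) ∈ A.subgroupOf L from ha)))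
          · rw [← subgroupOf_normalizer_eq hYR]
            exact hAY ha
        exact le_normalizer_map L.subtype ⟨_, haL, rfl⟩
      have key : P ≤ ((centralizer (Ab : Set _)).comap π).map L.subtype := by
        refine Signalizer.le_of_forall_invariant_pSubgroup (p := 2) hA hPA
          (Signalizer.not_dvd_card_of_le hPY h2) fun s hs Q hQP hQs hQA => ?_
        intro x hx
        have hxL : x ∈ L := hYR (hPY (hQP hx))
        refine ⟨⟨x, hxL⟩, ?_, rfl⟩
        show π ⟨x, hxL⟩ ∈ centralizer (Ab : Set _)
        by_cases hsp : s = p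
        · have h1 : π ⟨x, hxL⟩ ∈ Qb := by
            obtain ⟨y, hy, hyx⟩ := hQP hx
            have : y = ⟨x, hxL⟩ := Subtype.ext hyx
            exact this ▸ hy.1
          haveI : Fact s.Prime := ⟨hs⟩
          obtain ⟨k, hk⟩ := IsPGroup.iff_orderOf.1 hQs ⟨x, hx⟩
          obtain ⟨j, hj⟩ := IsPGroup.iff_orderOf.1 hQbq ⟨_, h1⟩
          rw [orderOf_mk] at hk hj
          have h3 : orderOf (π ⟨x, hxL⟩) ∣ s ^ k := by
            rw [← hk, ← Subgroup.orderOf_mk x hxL]
            exact orderOf_map_dvd π _
          have h4 : orderOf (π ⟨x, hxL⟩) = 1 := by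
            refine Nat.eq_one_of_dvd_coprimes ?_ h3 (dvd_of_eq hj)
            exact Nat.coprime_pow_primes _ _ hs hq (hsp ▸ fun h => hqp h.symm)
          rw [orderOf_eq_one_iff.1 h4]
          exact one_mem _
        · have hcx := hc s hs hsp Q (hQP.trans hPY) hQs hQA hx
          refine mem_centralizer_iff.2 ?_
          rintro _ ⟨a, ha, rfl⟩
          rw [← map_mul, ← map_mul]
          exact congrArg π (Subtype.ext (mem_centralizer_iff.1 hcx _ ha))
      intro z hz
      obtain ⟨y, hy, rfl⟩ := hQb hz
      obtain ⟨y', hy', hyy⟩ := key (mem_map_of_mem L.subtype ⟨hz, hy⟩)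
      exact (Subtype.ext hyy : y' = y) ▸ hy'
    have hb := ih _ (lt_of_lt_of_le hlt' hn) _ Yb Ab le_rfl hAb2 hAn
      (hodd.of_dvd_nat hdvd) hsolb hcb
    -- `[Y, A]` is covered by the commutator in the quotient
    have hcov : ⁅Yb, Ab⁆ = Yb := by
      refine le_antisymm (Signalizer.commutator_le_self hAn) ?_
      have h1 : Y.subgroupOf L ≤ ⁅Y.subgroupOf L, A.subgroupOf L⁆ := by
        intro y hy
        have h2 : (y : H) ∈ ⁅Y, A⁆ := (show Y ≤ ⁅Y, A⁆ from heq.ge) hy
        rw [← map_subgroupOf_eq_of_le hYR, ← map_subgroupOf_eq_of_le hRA, ← map_commutator] at h2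
        obtain ⟨w, hw, hwy⟩ := h2
        exact (Subtype.ext hwy : w = y) ▸ hw
      rw [hYb, hAb, ← map_commutator]
      exact map_mono h1
    rw [hcov] at hb
    rw [heq]
    by_cases hrp : r = p
    · subst hrp
      intro y
      obtain ⟨k, hk⟩ := hb ⟨π ⟨y, hYR y.2⟩, mem_map_of_mem π (show (⟨y, hYR y.2⟩ : L) ∈ Y.subgroupOf L from y.2)⟩
      have h1 : (y : H) ^ (r ^ k) ∈ R := by
        have := congrArg Subtype.val hk
        rw [SubmonoidClass.coe_pow, OneMemClass.coe_one, ← map_pow] at this
        have h := (QuotientGroup.eq_one_iff _).1 this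
        rwa [mem_subgroupOf, SubmonoidClass.coe_pow] at h
      obtain ⟨j, hj⟩ := hRr ⟨_, h1⟩
      refine ⟨k + j, Subtype.ext ?_⟩
      have := congrArg Subtype.val hj
      rw [SubmonoidClass.coe_pow, OneMemClass.coe_one, ← pow_mul, ← pow_add] at this
      simpa using this
    · -- `R` is central in `Y`, and `Y / R` is a `p`-group
      have hRc : R ≤ centralizer (A : Set H) := hc r hr hrp R hRY hRr hRA
      have hcen : ⁅⁅Y, A⁆, R⁆ = ⊥ := by
        refine commutator_commutator_eq_bot_of_rotate ?_ ?_
        · rw [commutator_comm A R, commutator_eq_bot_iff_le_centralizer.2 hRc, commutator_bot_left]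
        · refine commutator_eq_bot_iff_le_centralizer.2 ?_
          exact (le_normalizer_iff_commutator_le_left.1 hYR).trans hRc
      rw [show ⁅Y, A⁆ = Y from heq, commutator_eq_bot_iff_le_centralizer] at hcen
      let P : Sylow p Y := default
      have hnot : ¬ p ∣ Nat.card R := fun hd => by
        obtain ⟨k, hk⟩ := IsPGroup.iff_card.1 hRr
        rw [hk] at hd
        exact hrp ((Nat.prime_dvd_prime_iff_eq (Fact.out) hr).1
          ((Fact.out : p.Prime).dvd_of_dvd_pow hd)).symm
      set P' := (P : Subgroup Y).map Y.subtype with hP'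
      -- every element of `Y` is a product from `R` and `P'`
      have hprod : ∀ y ∈ Y, ∃ x ∈ R, ∃ z ∈ P', y = x * z := by
        haveI : (R.subgroupOf Y).Normal := normal_subgroupOf_of_le_normalizer hYR
        have hsup : (P : Subgroup Y) ⊔ R.subgroupOf Y = ⊤ := by
          refine index_eq_one.1 (Nat.eq_one_iff_not_exists_prime_dvd.2 fun s hs hd => ?_)
          have h1 : s ∣ (P : Subgroup Y).index := hd.trans (index_dvd_of_le le_sup_left)
          have h2 : s ∣ (R.subgroupOf Y).index := hd.trans (index_dvd_of_le le_sup_right)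
          have h3 : IsPGroup p (Y ⧸ R.subgroupOf Y) := by
            intro z
            obtain ⟨y, rfl⟩ := QuotientGroup.mk'_surjective _ z
            obtain ⟨k, hk⟩ := hb ⟨π ⟨y, hYR y.2⟩, mem_map_of_mem π
              (show (⟨y, hYR y.2⟩ : L) ∈ Y.subgroupOf L from y.2)⟩
            refine ⟨k, ?_⟩
            rw [← map_pow, QuotientGroup.mk'_apply, QuotientGroup.eq_one_iff]
            have h := congrArg Subtype.val hk
            rw [SubmonoidClass.coe_pow, OneMemClass.coe_one, ← map_pow] at h
            have h4 := (QuotientGroup.eq_one_iff _).1 h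
            rw [mem_subgroupOf, SubmonoidClass.coe_pow] at h4
            rw [mem_subgroupOf, SubmonoidClass.coe_pow]
            exact h4
          obtain ⟨k, hk⟩ := IsPGroup.iff_card.1 h3
          rw [index_eq_card, hk] at h2
          exact P.not_dvd_index
            ((Nat.prime_dvd_prime_iff_eq hs (Fact.out)).1 (hs.dvd_of_dvd_pow h2) ▸ h1)
        intro y hy
        have hmem : (⟨y, hy⟩ : Y) ∈ R.subgroupOf Y ⊔ (P : Subgroup Y) := by
          rw [sup_comm, hsup]; trivial
        obtain ⟨x, hx, z, hz, hxz⟩ := Subgroup.mem_sup_of_normal_left.1 hmem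
        exact ⟨x, hx, z, mem_map_of_mem _ hz, (congrArg Subtype.val hxz).symm⟩
      have hPn : (P : Subgroup Y).Normal := by
        refine ⟨fun z hz g => ?_⟩
        obtain ⟨x, hx, w, hw, hg⟩ := hprod g g.2
        obtain ⟨w', hw', rfl⟩ := hw
        have hzR : (z : H) * x = x * z :=
          (mem_centralizer_iff.1 (hcen z.2) x hx).symm
        have e : g * z * g⁻¹ = w' * z * w'⁻¹ := by
          refine Subtype.ext ?_
          have hwx : (w' : H) * x = x * w' := (mem_centralizer_iff.1 (hcen w'.2) x hx).symm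
          have h7 : ((w' : H) * z * (w' : H)⁻¹) * x = x * ((w' : H) * z * (w' : H)⁻¹) :=
            (mem_centralizer_iff.1 (hcen (Y.mul_mem (Y.mul_mem w'.2 z.2) (Y.inv_mem w'.2))) x hx).symm
          show (g : H) * z * (g : H)⁻¹ = _
          rw [hg]
          show x * (w' : H) * z * (x * (w' : H))⁻¹ = (w' : H) * z * (w' : H)⁻¹
          calc x * (w' : H) * z * (x * (w' : H))⁻¹
              = x * ((w' : H) * z * (w' : H)⁻¹) * x⁻¹ := by group
            _ = ((w' : H) * z * (w' : H)⁻¹) * x * x⁻¹ := by rw [h7]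
            _ = _ := by group
        rw [e]
        exact P.mul_mem (P.mul_mem hw' hz) (P.inv_mem hw')
      haveI : (P : Subgroup Y).Characteristic := P.characteristic_of_normal hPn
      have hPA : A ≤ normalizer (P' : Set H) :=
        hAY.trans (Coprime.normalizer_le_normalizer_map_characteristic Y _)
      refine (P.2.map Y.subtype).to_le (show Y ≤ P' from heq ▸ ?_)
      rw [hZ, commutator_le]
      intro y hy a ha
      obtain ⟨x, hx, z, hz, rfl⟩ := hprod y hy
      obtain ⟨z', hz', rfl⟩ := hz
      have hxa : a * x = x * a := mem_centralizer_iff.1 (hRc hx) a ha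
      have h7 : ⁅(z' : H), a⁆ ∈ P' :=
        (le_normalizer_iff_commutator_le_left.1 hPA) (commutator_mem_commutator (mem_map_of_mem _ hz') ha)
      have h8 : ⁅(z' : H), a⁆ * x = x * ⁅(z' : H), a⁆ :=
        (mem_centralizer_iff.1 (hcen (map_subtype_le _ h7)) x hx).symm
      show ⁅x * (z' : H), a⁆ ∈ P'
      have e : ⁅x * (z' : H), a⁆ = ⁅(z' : H), a⁆ := by
        calc ⁅x * (z' : H), a⁆ = x * ⁅(z' : H), a⁆ * (a * x⁻¹ * a⁻¹) := by
              simp [commutatorElement_def, mul_assoc]
          _ = x * ⁅(z' : H), a⁆ * x⁻¹ := by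
              congr 1
              calc a * x⁻¹ * a⁻¹ = (a * x * a⁻¹)⁻¹ := by group
                _ = x⁻¹ := by rw [hxa, mul_inv_cancel_right]
          _ = ⁅(z' : H), a⁆ := by rw [← h8, mul_inv_cancel_right]
      rw [e]
      exact h7

theorem isPGroup_commutator [Fact p.Prime] {H : Type u} [Group H] [Finite H] {Y A : Subgroup H}
    (hA : IsPGroup 2 A) (hAY : A ≤ normalizer (Y : Set H)) (hodd : Odd (Nat.card Y))
    (hsol : Group.IsSolvable Y) (hc : Centralizes p Y A) : IsPGroup p ↥⁅Y, A⁆ :=
  isPGroup_commutator_aux _ H Y A le_rfl hA hAY hodd hsol hc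

end Cfsg.Agent.PPrimeAbelian
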