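import Cfsg.Agent.PPrimeAbelian.Basic
import Cfsg.Agent.PPrimeAbelian.Commutator
import Cfsg.Agent.Signalizer.Functor
import Mathlib.GroupTheory.Transfer

/-!
The `2`-local structure of a minimal non-solvable group all of whose subgroups of order prime to
`p` are abelian: there is a proper subgroup containing the centraliser of each of its involutions.
-/

set_option autoImplicit false
set_option linter.style.haveILetI false
set_option linter.unusedSectionVars false

namespace Cfsg.Agent.PPrimeAbelian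

open Subgroup
open scoped commutatorElement

universe u

variable {G : Type u} [Group G] {p : ℕ}

/-- The standing assumptions. -/
structure Ctx (p : ℕ) (G : Type u) [Group G] : Prop where
  five : 5 ≤ p
  simple : IsSimpleGroup G
  noncomm : ¬ IsMulCommutative G
  hyp : Hyp p G
  sol : ∀ H : Subgroup G, H ≠ ⊤ → Group.IsSolvable H
  even : Even (Nat.card G)

/-- The subgroup generated by the elements of `H` squaring to one. -/
def sqOne (H : Subgroup G) : Subgroup G := Subgroup.closure {x | x ∈ H ∧ x * x = 1}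

theorem sqOne_le (H : Subgroup G) : sqOne H ≤ H := (closure_le _).2 fun _ hx => hx.1

theorem mem_sqOne {H : Subgroup G} (hH : IsMulCommutative H) {x : G} :
    x ∈ sqOne H ↔ x ∈ H ∧ x * x = 1 := by
  refine ⟨fun hx => ⟨sqOne_le H hx, ?_⟩, fun hx => subset_closure hx⟩
  induction hx using closure_induction with
  | mem y hy => exact hy.2
  | one => exact one_mul 1
  | mul a b ha hb iha ihb =>
    have hc : a * b = b * a :=
      congrArg Subtype.val (hH.is_comm.comm ⟨a, sqOne_le H ha⟩ ⟨b, sqOne_le H hb⟩)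
    calc a * b * (a * b) = a * (b * a) * b := by group
      _ = a * (a * b) * b := by rw [hc]
      _ = (a * a) * (b * b) := by group
      _ = 1 := by rw [iha, ihb, one_mul]
  | inv a _ iha => rw [← mul_inv_rev, iha, inv_one]

theorem normalizer_le_normalizer_sqOne [Finite G] (H : Subgroup G) :
    normalizer (H : Set G) ≤ normalizer ((sqOne H : Subgroup G) : Set G) := by
  refine le_normalizer_iff.2 fun g hg x hx => ?_
  have h : (sqOne H).map (MulAut.conj g).toMonoidHom ≤ sqOne H := by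
    rw [sqOne, MonoidHom.map_closure, closure_le]
    rintro _ ⟨y, hy, rfl⟩
    refine subset_closure ⟨(mem_normalizer_iff.1 hg y).1 hy.1, ?_⟩
    show (MulAut.conj g) y * (MulAut.conj g) y = 1
    rw [← map_mul, hy.2, map_one]
  exact h ⟨x, hx, rfl⟩

theorem exists_parts [Finite G] (hp : p.Prime) (g : G) :
    ∃ u v : G, g = u * v ∧ (orderOf u).Coprime p ∧ (∃ k, v ^ p ^ k = 1) ∧
      u ∈ zpowers g ∧ v ∈ zpowers g := by
  obtain ⟨k, m, hm, hn⟩ := Nat.exists_eq_pow_mul_and_not_dvd (orderOf_pos g).ne' p hp.ne_one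
  have hcop : Nat.Coprime (p ^ k) m := ((hp.coprime_iff_not_dvd.2 hm).pow_left k)
  have hb : (1 : ℤ) = (p ^ k : ℕ) * Nat.gcdA (p ^ k) m + (m : ℤ) * Nat.gcdB (p ^ k) m := by
    rw [← Nat.gcd_eq_gcd_ab, hcop.gcd_eq_one, Nat.cast_one]
  refine ⟨g ^ ((p ^ k : ℕ) * Nat.gcdA (p ^ k) m : ℤ), g ^ ((m : ℤ) * Nat.gcdB (p ^ k) m),
    by rw [← zpow_add, ← hb, zpow_one], ?_, ⟨k, ?_⟩, zpow_mem (mem_zpowers g) _,
    zpow_mem (mem_zpowers g) _⟩
  · have h1 : (g ^ ((p ^ k : ℕ) * Nat.gcdA (p ^ k) m : ℤ)) ^ m = 1 := by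
      rw [← zpow_natCast, ← zpow_mul, mul_right_comm, ← Nat.cast_mul, zpow_mul, zpow_natCast,
        ← hn, pow_orderOf_eq_one, one_zpow]
    exact ((hp.coprime_iff_not_dvd.2 hm).coprime_dvd_right (orderOf_dvd_of_pow_eq_one h1)).symm
  · rw [← zpow_natCast, ← zpow_mul, mul_comm, ← mul_assoc, ← Nat.cast_mul, zpow_mul, zpow_natCast,
      ← hn, pow_orderOf_eq_one, one_zpow]

theorem le_of_normal_pGroup {q : ℕ} [Finite G] [Fact q.Prime] {Q X N : Subgroup G}
    (hQ : Signalizer.IsSyl q Q X) (hNX : N ≤ X) (hn : X ≤ normalizer (N : Set G))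
    (hN : IsPGroup q N) : N ≤ Q := by
  have h : Q ⊔ N ≤ X := sup_le hQ.le hNX
  have hp : IsPGroup q ↥(Q ⊔ N) :=
    hQ.isPGroup.to_sup_of_normal_right' hN ((hQ.le).trans hn)
  exact hQ.2.2 _ h hp le_sup_left ▸ le_sup_right

theorem map_centralizerPPrimeCore {q : ℕ} (e : G ≃* G) (a : G) :
    (Cfsg.centralizerPPrimeCore q a).map e.toMonoidHom = Cfsg.centralizerPPrimeCore q (e a) := by
  set C := centralizer ({a} : Set G)
  set D := centralizer ({e a} : Set G)
  have hCD : C.map e.toMonoidHom = D := by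
    ext x
    constructor
    · rintro ⟨y, hy, rfl⟩
      refine mem_centralizer_singleton_iff.2 ?_
      show e y * e a = e a * e y
      rw [← map_mul, ← map_mul, mem_centralizer_singleton_iff.1 hy]
    · intro hx
      refine ⟨e.symm x, mem_centralizer_singleton_iff.2 (e.injective ?_), e.apply_symm_apply x⟩
      rw [map_mul, map_mul, e.apply_symm_apply]
      exact mem_centralizer_singleton_iff.1 hx
  let f : C ≃* D := (C.equivMapOfInjective e.toMonoidHom e.injective).trans (MulEquiv.subgroupCongr hCD)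
  have h := Cores.map_pPrimeCore_equiv (p := q) f
  rw [Cfsg.centralizerPPrimeCore, Cfsg.centralizerPPrimeCore, ← h, map_map, map_map]
  rfl

namespace Ctx

variable [Finite G] (c : Ctx p G) [Fact p.Prime]
include c

omit [Finite G] in
theorem coprime_two : Nat.Coprime 2 p := by
  refine (Nat.coprime_primes Nat.prime_two (Fact.out)).2 ?_
  have := c.five
  omega

theorem comm_of_two {H : Subgroup G} (hH : IsPGroup 2 H) : IsMulCommutative H := by
  haveI : Fact (Nat.Prime 2) := ⟨Nat.prime_two⟩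
  obtain ⟨k, hk⟩ := IsPGroup.iff_card.1 hH
  exact (c.hyp H (hk ▸ (c.coprime_two).pow_left k)).1

omit [Finite G] [Fact p.Prime] in
theorem center_eq_bot : center G = ⊥ := by
  haveI := c.simple
  exact (IsSimpleGroup.eq_bot_or_eq_top_of_normal (center G) inferInstance).resolve_right fun h =>
    c.noncomm ⟨⟨fun a b => (mem_center_iff.1 (h ▸ mem_top a) b).symm⟩⟩

omit [Finite G] [Fact p.Prime] in
theorem centralizer_ne_top {a : G} (ha : a ≠ 1) : centralizer ({a} : Set G) ≠ ⊤ := fun h => by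
  have h1 : a ∈ center G := mem_center_iff.2 fun g =>
    mem_centralizer_singleton_iff.1 (h ▸ mem_top g : g ∈ centralizer ({a} : Set G))
  rw [c.center_eq_bot] at h1
  exact ha h1

omit [Finite G] [Fact p.Prime] in
theorem normalizer_ne_top {H : Subgroup G} (h1 : H ≠ ⊥) (h2 : H ≠ ⊤) :
    normalizer (H : Set G) ≠ ⊤ := fun h => by
  haveI : H.Normal := normalizer_eq_top_iff.1 h
  haveI := c.simple
  exact (IsSimpleGroup.eq_bot_or_eq_top_of_normal H inferInstance).elim h1 h2

theorem sol_centralizer {a : G} (ha : a ≠ 1) : Group.IsSolvable (centralizer ({a} : Set G)) :=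
  c.sol _ (c.centralizer_ne_top ha)

/-- An element of order prime to `p` normalising a `2`-group centralises it. -/
theorem commute_of_coprime {H : Subgroup G} (hH : IsPGroup 2 H) {u : G}
    (hu : u ∈ normalizer (H : Set G)) (huo : (orderOf u).Coprime p) {x : G} (hx : x ∈ H) :
    Commute u x := by
  haveI : Fact (Nat.Prime 2) := ⟨Nat.prime_two⟩
  refine c.hyp.commute (H := H ⊔ zpowers u) ?_ (mem_sup_right (mem_zpowers u)) (mem_sup_left hx)
  obtain ⟨k, hk⟩ := IsPGroup.iff_card.1 hH
  refine Nat.Coprime.coprime_dvd_left (Signalizer.card_sup_dvd (zpowers_le.2 hu)) ?_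
  rw [hk, Nat.card_zpowers]
  exact (c.coprime_two.pow_left k).mul_left huo

variable (S : Sylow 2 G)

theorem sylow_comm : IsMulCommutative (S : Subgroup G) := c.comm_of_two S.2

theorem elemAb_sqOne : Cfsg.IsElementaryAbelian 2 (sqOne (S : Subgroup G)) := by
  refine ⟨⟨⟨fun a b => Subtype.ext ?_⟩⟩, fun a ha => ?_⟩
  · simpa using congrArg Subtype.val
      ((c.sylow_comm S).is_comm.comm ⟨a, sqOne_le _ a.2⟩ ⟨b, sqOne_le _ b.2⟩)
  · rw [pow_two]; exact ((mem_sqOne (c.sylow_comm S)).1 ha).2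

theorem sylow_le_centralizer {a : G} (ha : a ∈ (S : Subgroup G)) :
    (S : Subgroup G) ≤ centralizer ({a} : Set G) := fun s hs =>
  mem_centralizer_singleton_iff.2
    (congrArg Subtype.val ((c.sylow_comm S).is_comm.comm ⟨s, hs⟩ ⟨a, ha⟩))

/-- A `p`-element normalising an abelian `2`-group and fixing its elements of order two. -/
theorem commute_of_fix {v : G} (hv : v ∈ normalizer ((S : Subgroup G) : Set G))
    (hvp : ∃ k, v ^ p ^ k = 1) (hfix : ∀ e ∈ sqOne (S : Subgroup G), v * e * v⁻¹ = e) :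
    ∀ s ∈ (S : Subgroup G), v * s * v⁻¹ = s := by
  haveI : Fact (Nat.Prime 2) := ⟨Nat.prime_two⟩
  have key : ∀ (n : ℕ), ∀ s ∈ (S : Subgroup G), s ^ 2 ^ n = 1 → v * s * v⁻¹ = s := by
    intro n
    induction n with
    | zero => intro s _ h; rw [pow_zero, pow_one] at h; simp [h]
    | succ n ih =>
      intro s hs h
      rw [pow_succ', pow_mul] at h
      have h2 := ih _ (pow_mem hs 2) h
      set e := s⁻¹ * (v * s * v⁻¹) with he
      have hvs : v * s * v⁻¹ ∈ (S : Subgroup G) := (mem_normalizer_iff.1 hv s).1 hs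
      have hesq : e * e = 1 := by
        have hc : (v * s * v⁻¹) * s⁻¹ = s⁻¹ * (v * s * v⁻¹) :=
          congrArg Subtype.val ((c.sylow_comm S).is_comm.comm ⟨_, hvs⟩ ⟨_, inv_mem hs⟩)
        calc e * e = s⁻¹ * ((v * s * v⁻¹) * s⁻¹) * (v * s * v⁻¹) := by rw [he]; group
          _ = s⁻¹ * (s⁻¹ * (v * s * v⁻¹)) * (v * s * v⁻¹) := by rw [hc]
          _ = (s * s)⁻¹ * (v * (s * s) * v⁻¹) := by group
          _ = (s ^ 2)⁻¹ * (v * s ^ 2 * v⁻¹) := by rw [← pow_two]
          _ = 1 := by rw [h2, inv_mul_cancel]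
      have heE : e ∈ sqOne (S : Subgroup G) :=
        (mem_sqOne (c.sylow_comm S)).2 ⟨mul_mem (inv_mem hs) hvs, hesq⟩
      have hfe := hfix e heE
      have hiter : ∀ j : ℕ, v ^ j * s * (v ^ j)⁻¹ = s * e ^ j := by
        intro j
        induction j with
        | zero => simp
        | succ j ihj =>
          have hej : v * e ^ j * v⁻¹ = e ^ j := by
            rw [← conj_pow, hfe]
          calc v ^ (j + 1) * s * (v ^ (j + 1))⁻¹ = v * (v ^ j * s * (v ^ j)⁻¹) * v⁻¹ := by
                rw [pow_succ']; group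
            _ = v * (s * e ^ j) * v⁻¹ := by rw [ihj]
            _ = (v * s * v⁻¹) * (v * e ^ j * v⁻¹) := by group
            _ = s * e * e ^ j := by rw [hej, he]; group
            _ = s * e ^ (j + 1) := by rw [pow_succ', mul_assoc]
      obtain ⟨k, hk⟩ := hvp
      have h3 := hiter (p ^ k)
      rw [hk, one_mul, inv_one, mul_one, left_eq_mul] at h3
      have h4 : orderOf e = 1 := Nat.eq_one_of_dvd_coprimes (c.coprime_two.pow_right k)
        (orderOf_dvd_of_pow_eq_one (by rw [pow_two]; exact hesq)) (orderOf_dvd_of_pow_eq_one h3)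
      rw [orderOf_eq_one_iff, he, inv_mul_eq_one] at h4
      exact h4.symm
  intro s hs
  obtain ⟨n, hn⟩ := S.2 ⟨s, hs⟩
  exact key n s hs (congrArg Subtype.val hn)

theorem eight_le : 8 ≤ Nat.card (sqOne (S : Subgroup G)) := by
  haveI : Fact (Nat.Prime 2) := ⟨Nat.prime_two⟩
  set E := sqOne (S : Subgroup G) with hE
  by_contra h8
  push Not at h8
  obtain ⟨k, hk⟩ := IsPGroup.iff_card.1 (Signalizer.elemAb_isPGroup (c.elemAb_sqOne S))
  have hle : Nat.card E ≤ 4 := by
    rw [← hE] at hk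
    rw [hk] at h8 ⊢
    have : k ≤ 2 := by
      by_contra hk3
      push Not at hk3
      have := Nat.pow_le_pow_right (show 1 ≤ 2 by norm_num) hk3
      norm_num at this
      omega
    calc 2 ^ k ≤ 2 ^ 2 := Nat.pow_le_pow_right (by norm_num) this
      _ = 4 := by norm_num
  have hNC : normalizer ((S : Subgroup G) : Set G) ≤ centralizer ((S : Subgroup G) : Set G) := by
    intro g hg
    obtain ⟨u, v, rfl, hu, hv, huz, hvz⟩ := exists_parts (p := p) Fact.out g
    have huN := (zpowers_le.2 hg) huz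
    have hvN := (zpowers_le.2 hg) hvz
    refine mul_mem (mem_centralizer_iff.2 fun s hs => (c.commute_of_coprime S.2 huN hu hs).symm) ?_
    refine mem_centralizer_iff.2 fun s hs => ?_
    have h := c.commute_of_fix S hvN hv ?_ s hs
    · calc s * v = (v * s * v⁻¹) * v := by rw [h]
        _ = v * s := by group
    intro e he
    have hvE : v ∈ normalizer (E : Set G) := normalizer_le_normalizer_sqOne _ hvN
    set f : Equiv.Perm E := MulAut.toPerm E (E.normalizerMonoidHom ⟨v, hvE⟩) with hf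
    obtain ⟨m, hm⟩ := hv
    have h1 : f ^ p ^ m = 1 := by
      rw [hf, ← map_pow, ← map_pow]
      have : (⟨v, hvE⟩ : normalizer (E : Set G)) ^ p ^ m = 1 := Subtype.ext hm
      rw [this, map_one, map_one]
    have h2 : orderOf f ∣ (Nat.card E).factorial := by
      rw [← Nat.card_perm]
      exact orderOf_dvd_natCard f
    have h3 : orderOf f = 1 := by
      refine Nat.eq_one_of_dvd_coprimes ?_ (orderOf_dvd_of_pow_eq_one h1) h2
      refine Nat.Coprime.pow_left _ ((Fact.out : p.Prime).coprime_iff_not_dvd.2 fun hd => ?_)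
      have h4 : p ∣ Nat.factorial 4 := hd.trans (Nat.factorial_dvd_factorial hle)
      have := ((Fact.out : p.Prime).dvd_factorial).1 h4
      have := c.five
      omega
    have h4 := congrArg (fun σ : Equiv.Perm E => ((σ ⟨e, he⟩ : E) : G)) (orderOf_eq_one_iff.1 h3)
    exact h4
  -- normal `2`-complement
  let K := (MonoidHom.transferSylow S hNC).ker
  have hc' := MonoidHom.ker_transferSylow_isComplement' S hNC
  haveI := c.simple
  rcases IsSimpleGroup.eq_bot_or_eq_top_of_normal K inferInstance with h | h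
  · have hS : (S : Subgroup G) = ⊤ := by
      refine eq_top_of_card_eq _ ?_
      have := hc'.card_mul_card
      rw [show (MonoidHom.transferSylow S hNC).ker = ⊥ from h, card_bot, one_mul] at this
      exact this
    refine c.noncomm ⟨⟨fun a b => ?_⟩⟩
    exact congrArg Subtype.val ((c.sylow_comm S).is_comm.comm ⟨a, hS ▸ mem_top a⟩ ⟨b, hS ▸ mem_top b⟩)
  · have := hc'.card_mul_card
    rw [show (MonoidHom.transferSylow S hNC).ker = ⊤ from h, card_top] at this
    have h1 : Nat.card (S : Subgroup G) = 1 :=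
      Nat.eq_of_mul_eq_mul_left Nat.card_pos (this.trans (mul_one _).symm)
    have h2 := S.ne_bot_of_dvd_card (even_iff_two_dvd.1 c.even)
    exact h2 (eq_bot_of_card_eq _ h1)

/-- The odd core of the centraliser. -/
local notation "Θ" => Cfsg.centralizerPPrimeCore 2

theorem odd_theta (a : G) : Odd (Nat.card (Θ a : Subgroup G)) := by
  rw [Cfsg.centralizerPPrimeCore, card_map_of_injective (Subgroup.subtype_injective _)]
  exact Nat.coprime_two_right.1 Cores.pPrimeCore_coprime

theorem theta_le (a : G) : (Θ a : Subgroup G) ≤ centralizer ({a} : Set G) := map_subtype_le _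

theorem centralizer_le_normalizer_theta (a : G) :
    centralizer ({a} : Set G) ≤ normalizer ((Θ a : Subgroup G) : Set G) :=
  le_normalizer.trans (Coprime.normalizer_le_normalizer_map_characteristic _ _)

theorem comm_of_two_sub {H : Subgroup G} (T : Sylow 2 H) : IsMulCommutative (T : Subgroup H) := by
  refine ⟨⟨fun x y => Subtype.ext (Subtype.ext ?_)⟩⟩
  simpa using congrArg Subtype.val ((c.comm_of_two (T.2.map H.subtype)).is_comm.comm
    ⟨_, mem_map_of_mem H.subtype x.2⟩ ⟨_, mem_map_of_mem H.subtype y.2⟩)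

theorem le_theta {a : G} (ha : a ∈ (S : Subgroup G)) (ha1 : a ≠ 1) {U : Subgroup G}
    (hU : U ≤ centralizer ({a} : Set G)) (hodd : Odd (Nat.card U))
    (hn : (S : Subgroup G) ≤ normalizer (U : Set G)) : U ≤ Θ a := by
  haveI := c.sol_centralizer ha1
  let T : Sylow 2 (centralizer ({a} : Set G)) := S.subtype (c.sylow_le_centralizer S ha)
  have h := (oddCore_abelianSylow T (c.comm_of_two_sub T)).2 (U.subgroupOf _) ?_ ?_
  · intro u hu
    exact ⟨⟨u, hU hu⟩, h hu, rfl⟩
  · rwa [Nat.card_congr (subgroupOfEquivOfLe hU).toEquiv]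
  · intro x hx
    rw [← subgroupOf_normalizer_eq hU]
    exact hn hx

theorem centralizer_le_theta_sup {a : G} (ha : a ∈ (S : Subgroup G)) (ha1 : a ≠ 1) :
    centralizer ({a} : Set G) ≤ Θ a ⊔ normalizer ((S : Subgroup G) : Set G) := by
  haveI := c.sol_centralizer ha1
  haveI : Fact (Nat.Prime 2) := ⟨Nat.prime_two⟩
  set C := centralizer ({a} : Set G) with hC
  have hSC := c.sylow_le_centralizer S ha
  let T : Sylow 2 C := S.subtype hSC
  haveI := (oddCore_abelianSylow T (c.comm_of_two_sub T)).1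
  have htop := T.normalizer_sup_eq_top' (le_sup_right : (T : Subgroup C) ≤ Cfsg.pPrimeCore 2 C ⊔ (T : Subgroup C))
  intro x hx
  have hm : (⟨x, hx⟩ : C) ∈ normalizer ((T : Subgroup C) : Set C) ⊔ Cfsg.pPrimeCore 2 C := by
    have : normalizer ((T : Subgroup C) : Set C) ⊔ (Cfsg.pPrimeCore 2 C ⊔ (T : Subgroup C)) ≤
        normalizer ((T : Subgroup C) : Set C) ⊔ Cfsg.pPrimeCore 2 C :=
      sup_le le_sup_left (sup_le le_sup_right (le_normalizer.trans le_sup_left))
    exact this (htop.symm ▸ mem_top _)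
  have hT : (T : Subgroup C) = (S : Subgroup G).subgroupOf C := rfl
  rw [hT, ← subgroupOf_normalizer_eq hSC] at hm
  obtain ⟨n, hn, o, ho, hno⟩ := Subgroup.mem_sup_of_normal_right.1 hm
  have hx' : (n : G) * (o : G) = x := congrArg Subtype.val hno
  rw [← hx']
  exact mul_mem (mem_sup_right hn) (mem_sup_left ⟨o, ho, rfl⟩)

theorem isSignalizer :
    Cfsg.IsSolvableSignalizerFunctor 2 (sqOne (S : Subgroup G)) Θ := by
  refine ⟨⟨fun a _ _ => c.theta_le a, fun a _ _ h => ?_, fun a ha _ b hb x hx => ?_,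
    fun a ha ha1 b hb hb1 => ?_⟩, fun a _ ha1 => ?_⟩
  · exact Nat.not_even_iff_odd.2 (c.odd_theta a) (even_iff_two_dvd.2 h)
  · exact le_normalizer_iff.1 (c.centralizer_le_normalizer_theta a)
      b (c.sylow_le_centralizer S (sqOne_le _ ha) (sqOne_le _ hb)) x hx
  · refine c.le_theta S (sqOne_le _ hb) hb1 inf_le_right
      ((c.odd_theta a).of_dvd_nat (card_dvd_of_le inf_le_left)) ?_
    exact le_inf ((c.sylow_le_centralizer S (sqOne_le _ ha)).trans
      (c.centralizer_le_normalizer_theta a))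
      ((c.sylow_le_centralizer S (sqOne_le _ hb)).trans le_normalizer) |>.trans
      inf_normalizer_le_normalizer_inf
  · haveI := c.sol_centralizer ha1
    exact Signalizer.isSolvable_subgroup_of_le (c.theta_le a) inferInstance

/-- Invariant subgroups of order prime to `p` are centralised. -/
theorem centralizes {Y : Subgroup G} :
    Centralizes p Y (sqOne (S : Subgroup G)) := by
  intro r hr hrp R _ hR hA
  haveI : Fact r.Prime := ⟨hr⟩
  haveI : Fact (Nat.Prime 2) := ⟨Nat.prime_two⟩
  intro x hx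
  refine mem_centralizer_iff.2 fun e he => ?_
  refine c.hyp.commute (H := R ⊔ sqOne (S : Subgroup G)) ?_ (mem_sup_right he) (mem_sup_left hx)
  obtain ⟨k, hk⟩ := IsPGroup.iff_card.1 hR
  obtain ⟨j, hj⟩ := IsPGroup.iff_card.1 (Signalizer.elemAb_isPGroup (c.elemAb_sqOne S))
  refine Nat.Coprime.coprime_dvd_left (Signalizer.card_sup_dvd hA) ?_
  rw [hk, hj]
  exact (((Nat.coprime_primes hr Fact.out).2 hrp).pow_left k).mul_left (c.coprime_two.pow_left j)

/-- A proper subgroup containing every centraliser of an involution of `S`. -/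
theorem exists_embedded : ∃ M : Subgroup G, M ≠ ⊤ ∧
    (∀ a ∈ sqOne (S : Subgroup G), a ≠ 1 → centralizer ({a} : Set G) ≤ M) ∧
    normalizer ((sqOne (S : Subgroup G) : Subgroup G) : Set G) ≤ M := by
  haveI : Fact (Nat.Prime 2) := ⟨Nat.prime_two⟩
  set E := sqOne (S : Subgroup G) with hE
  have h8 := c.eight_le S
  have hE1 : E ≠ ⊥ := fun h => by
    rw [← hE, h, card_bot] at h8; omega
  have hcover : ∀ K : Subgroup G, normalizer (E : Set G) ≤ K →
      (∀ a ∈ E, a ≠ 1 → (Θ a : Subgroup G) ≤ K) →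
      ∀ a ∈ E, a ≠ 1 → centralizer ({a} : Set G) ≤ K := fun K hK hθ a ha ha1 =>
    (c.centralizer_le_theta_sup S (sqOne_le _ ha) ha1).trans (sup_le (hθ a ha ha1)
      ((normalizer_le_normalizer_sqOne _).trans hK))
  have hA3 : 2 ^ 3 ≤ Nat.card E := h8
  have hEe := c.elemAb_sqOne S
  have hθ := c.isSignalizer S
  have hnorm : ∀ a ∈ E, a ≠ 1 → E ≤ normalizer ((Θ a : Subgroup G) : Set G) := fun a ha _ =>
    ((sqOne_le _).trans (c.sylow_le_centralizer S (sqOne_le _ ha))).trans
      (c.centralizer_le_normalizer_theta a)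
  by_cases hA : ∀ a ∈ E, a ≠ 1 → (Θ a : Subgroup G) ≤ centralizer (E : Set G)
  · refine ⟨normalizer (E : Set G), c.normalizer_ne_top hE1 ?_, hcover _ le_rfl
      (fun a ha ha1 => (hA a ha ha1).trans (Coprime.centralizer_le_normalizer' E)), le_rfl⟩
    intro h
    refine c.noncomm ⟨⟨fun a b => ?_⟩⟩
    exact Signalizer.elemAb_comm hEe ((h.symm.le) (mem_top a)) ((h.symm.le) (mem_top b))
  push Not at hA
  obtain ⟨a₀, ha₀, ha₀1, hnot⟩ := hA
  set W := ⨆ a : {a : G // a ∈ E ∧ a ≠ 1}, ⁅(Θ (a : G) : Subgroup G), E⁆ with hW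
  have hW1 : W ≠ ⊥ := fun h => by
    refine hnot (commutator_eq_bot_iff_le_centralizer.1 (le_bot_iff.1 ?_))
    exact h ▸ le_iSup (fun a : {a : G // a ∈ E ∧ a ≠ 1} => ⁅(Θ (a : G) : Subgroup G), E⁆) ⟨a₀, ha₀, ha₀1⟩
  -- `W` is contained in a maximal invariant `p`-subgroup
  obtain ⟨P, hP, -⟩ := Signalizer.exists_isMaxPMember_ge (p := 2) (A := E) (θ := Θ) (q := p)
    (R := ⊥) Signalizer.bot_mem_family IsPGroup.of_bot
  have hWP : W ≤ P := iSup_le fun ⟨a, ha, ha1⟩ => by
    have hodd := c.odd_theta a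
    have hsolv := hθ.2 a ha ha1
    have hpg : IsPGroup p ↥⁅(Θ a : Subgroup G), E⁆ := isPGroup_commutator
      (Signalizer.elemAb_isPGroup hEe) (hnorm a ha ha1) hodd hsolv (c.centralizes S)
    have hs := Signalizer.inf_centralizer_isSyl hEe hA3 hθ hP (zpowers_le.2 ha)
      (fun h => ha1 (zpowers_eq_bot.1 h))
    have hz : Cfsg.signalizerInf (zpowers a) (Θ : G → Subgroup G) = Θ a := by
      refine le_antisymm (Signalizer.signalizerInf_le (mem_zpowers a) ha1) fun x hx =>
        Signalizer.mem_signalizerInf.2 fun b hb hb1 => ?_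
      have h2 : orderOf a = 2 := Signalizer.elemAb_orderOf hEe ha ha1
      obtain ⟨k, rfl⟩ := mem_zpowers_iff.1 hb
      rw [← zpow_mod_orderOf, h2] at hb1 ⊢
      rcases Int.emod_two_eq_zero_or_one k with hk | hk
      · simp [hk] at hb1
      · simpa [hk] using hx
    rw [hz] at hs
    have hn : (Θ a : Subgroup G) ≤ normalizer ((⁅(Θ a : Subgroup G), E⁆ : Subgroup G) : Set G) :=
      normalizer_commutator_ge_left _ _
    exact le_trans (le_of_normal_pGroup hs (Signalizer.commutator_le_self (hnorm a ha ha1)) hn hpg)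
      inf_le_left
  have hWtop : W ≠ ⊤ := fun h => by
    haveI : Group.IsSolvable (⊤ : Subgroup G) :=
      Signalizer.isSolvable_subgroup_of_le (h ▸ hWP) hP.1.1
    haveI := c.simple
    haveI : Group.IsSolvable G := Group.isSolvable_of_surjective (f := (⊤ : Subgroup G).subtype)
      (fun x => ⟨⟨x, mem_top x⟩, rfl⟩)
    exact c.noncomm ⟨⟨IsSimpleGroup.comm_iff_isSolvable.2 inferInstance⟩⟩
  have hNE : normalizer (E : Set G) ≤ normalizer (W : Set G) := by
    refine le_normalizer_iff.2 fun g hg x hx => ?_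
    have h : W.map (MulAut.conj g).toMonoidHom ≤ W := by
      rw [hW, Subgroup.map_iSup]
      refine iSup_le fun ⟨a, ha, ha1⟩ => ?_
      rw [map_commutator]
      have hE' : E.map (MulAut.conj g).toMonoidHom = E := Signalizer.map_conj_eq_self_iff.2 hg
      have hga : g * a * g⁻¹ ∈ E := (mem_normalizer_iff.1 hg a).1 ha
      have hθ' : (Θ a : Subgroup G).map (MulAut.conj g).toMonoidHom = Θ (g * a * g⁻¹) :=
        map_centralizerPPrimeCore (MulAut.conj g) a
      rw [hθ', hE']
      exact le_iSup (fun b : {b : G // b ∈ E ∧ b ≠ 1} => ⁅(Θ (b : G) : Subgroup G), E⁆)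
        ⟨g * a * g⁻¹, hga, by simpa using ha1⟩
    exact h ⟨x, hx, rfl⟩
  refine ⟨normalizer (W : Set G), c.normalizer_ne_top hW1 hWtop, hcover _ hNE fun a ha ha1 => ?_,
    hNE⟩
  rw [Signalizer.eq_inf_centralizer_sup_commutator (p := 2) (Signalizer.elemAb_isPGroup hEe)
    (hnorm a ha ha1) (hθ.1.2.1 a ha ha1)]
  refine sup_le (inf_le_right.trans ((Coprime.centralizer_le_normalizer' E).trans hNE)) ?_
  exact le_trans (le_iSup (fun b : {b : G // b ∈ E ∧ b ≠ 1} => ⁅(Θ (b : G) : Subgroup G), E⁆)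
    ⟨a, ha, ha1⟩) le_normalizer

end Ctx

end Cfsg.Agent.PPrimeAbelian
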