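import Cfsg.Agent.PPrimeAbelian.Local
import Cfsg.Agent.H4.ZJFusion
import Cfsg.Agent.OddLocal.PConstraint
import Cfsg.Agent.TwoFusion.SEBasic
import Cfsg.Agent.Invol.Counting
import Mathlib.GroupTheory.Focal

/-!
A finite group in which every subgroup of order prime to `p` is abelian of exponent dividing `p - 1`
is not simple non-abelian of even order.
-/

set_option autoImplicit false
set_option linter.style.haveILetI false
set_option linter.unusedSectionVars false

namespace Cfsg.Agent.PPrimeAbelian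

open Subgroup
open scoped commutatorElement Pointwise

universe u

variable {G : Type u} [Group G] {p : ℕ}

theorem two_pow_eq {n a : ℕ} (hp : p.Prime) (hp2 : p ≠ 2) (hn : 2 ≤ n) (h : p ^ a + 1 = 2 ^ n) :
    a = 1 := by
  have hodd := hp.odd_of_ne_two hp2
  rcases Nat.even_or_odd a with ⟨b, rfl⟩ | ⟨b, rfl⟩
  · exfalso
    obtain ⟨c, hc⟩ : Odd (p ^ b) := hodd.pow
    obtain ⟨m, rfl⟩ := Nat.exists_eq_add_of_le hn
    rw [pow_add, hc, pow_add] at h
    ring_nf at h
    omega
  · have key : ∀ b : ℕ, ∃ m : ℤ, Odd m ∧ (p : ℤ) ^ (2 * b + 1) + 1 = ((p : ℤ) + 1) * m := by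
      intro b
      induction b with
      | zero => exact ⟨1, odd_one, by ring⟩
      | succ b ih =>
        obtain ⟨m, hm, e⟩ := ih
        refine ⟨(p : ℤ) ^ 2 * m - ((p : ℤ) - 1), ?_, ?_⟩
        · have hpz : Odd (p : ℤ) := by exact_mod_cast hodd
          exact ((hpz.pow).mul hm).sub_even (hpz.sub_odd odd_one)
        · calc (p : ℤ) ^ (2 * (b + 1) + 1) + 1
              = (p : ℤ) ^ 2 * ((p : ℤ) ^ (2 * b + 1) + 1) - ((p : ℤ) ^ 2 - 1) := by ring
            _ = _ := by rw [e]; ring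
    obtain ⟨m, hm, e⟩ := key b
    have hd : (m.natAbs) ∣ 2 ^ n := by
      refine ⟨p + 1, ?_⟩
      have h1 := congrArg Int.natAbs e
      rw [Int.natAbs_mul] at h1
      have h2 : ((p : ℤ) ^ (2 * b + 1) + 1).natAbs = 2 ^ n := by
        rw [← h]; norm_cast
      have h3 : ((p : ℤ) + 1).natAbs = p + 1 := by norm_cast
      rw [h2, h3] at h1
      rw [h1, mul_comm]
    have hm1 : m.natAbs = 1 := by
      obtain ⟨j, -, hj⟩ := (Nat.dvd_prime_pow Nat.prime_two).1 hd
      rcases Nat.eq_zero_or_pos j with rfl | hj0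
      · simpa using hj
      · exact absurd (Int.natAbs_odd.2 hm) (by
          rw [hj]; exact Nat.not_odd_iff_even.2 (Even.pow_of_ne_zero even_two hj0.ne'))
    have h1 := congrArg Int.natAbs e
    rw [Int.natAbs_mul, hm1, mul_one] at h1
    have h4 : p ^ (2 * b + 1) + 1 = p + 1 := by
      have h2 : ((p : ℤ) ^ (2 * b + 1) + 1).natAbs = p ^ (2 * b + 1) + 1 := by norm_cast
      have h3 : ((p : ℤ) + 1).natAbs = p + 1 := by norm_cast
      rw [h2, h3] at h1
      exact h1
    have h5 : p ^ (2 * b + 1) = p ^ 1 := by rw [pow_one]; omega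
    exact Nat.pow_right_injective hp.two_le h5

namespace Ctx

variable [Finite G] (c : Ctx p G) [Fact p.Prime]
include c

theorem proper_solvable_le {H : Subgroup G} (hH : H ≠ ⊤) : Group.IsSolvable H := c.sol H hH

variable (S : Sylow 2 G)

/-- An elementary abelian `2`-subgroup containing `Ω₁(S)` equals it. -/
theorem eq_sqOne {R : Subgroup G} (hR : Cfsg.IsElementaryAbelian 2 R)
    (hle : sqOne (S : Subgroup G) ≤ R) : R = sqOne (S : Subgroup G) := by
  haveI : Fact (Nat.Prime 2) := ⟨Nat.prime_two⟩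
  obtain ⟨T, hT⟩ := (Signalizer.elemAb_isPGroup hR).exists_le_sylow
  obtain ⟨g, hg⟩ := MulAction.exists_smul_eq G T S
  have h1 : R.map (MulAut.conj g).toMonoidHom ≤ sqOne (S : Subgroup G) := by
    rintro _ ⟨r, hr, rfl⟩
    refine (mem_sqOne (c.sylow_comm S)).2 ⟨?_, ?_⟩
    · rw [← hg]
      exact (smul_mem_pointwise_smul r _ _ (hT hr) : MulAut.conj g • r ∈ MulAut.conj g • (T : Subgroup G))
    · show (MulAut.conj g) r * (MulAut.conj g) r = 1
      rw [← map_mul, ← pow_two, hR.2 r hr, map_one]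
  refine (eq_of_le_of_card_ge hle ?_).symm
  rw [← card_map_of_injective (K := R) (f := (MulAut.conj g).toMonoidHom) (MulAut.conj g).injective]
  exact card_le_of_le h1

theorem elemAb_of_sq {R : Subgroup G} (hR : IsPGroup 2 R) :
    Cfsg.IsElementaryAbelian 2 (sqOne R) := by
  have hab := c.comm_of_two hR
  refine ⟨⟨⟨fun a b => Subtype.ext ?_⟩⟩, fun a ha => ?_⟩
  · simpa using congrArg Subtype.val (hab.is_comm.comm ⟨a, sqOne_le _ a.2⟩ ⟨b, sqOne_le _ b.2⟩)
  · rw [pow_two]; exact ((mem_sqOne hab).1 ha).2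

/-- An involution normalising `Ω₁(S)` lies in it. -/
theorem mem_of_normalizes {s : G} (hs : s * s = 1)
    (hn : s ∈ normalizer ((sqOne (S : Subgroup G) : Subgroup G) : Set G)) :
    s ∈ sqOne (S : Subgroup G) := by
  haveI : Fact (Nat.Prime 2) := ⟨Nat.prime_two⟩
  set E := sqOne (S : Subgroup G)
  have hp : IsPGroup 2 ↥(E ⊔ zpowers s) := by
    refine (Signalizer.elemAb_isPGroup (c.elemAb_sqOne S)).to_sup_of_normal_left' ?_ (zpowers_le.2 hn)
    rintro ⟨x, hx⟩
    obtain ⟨k, rfl⟩ := mem_zpowers_iff.1 hx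
    refine ⟨1, Subtype.ext ?_⟩
    show (s ^ k) ^ 2 ^ 1 = 1
    rw [pow_one, ← zpow_natCast, ← zpow_mul, mul_comm, zpow_mul, zpow_natCast, pow_two, hs, one_zpow]
  have hle : E ≤ sqOne (E ⊔ zpowers s) := fun e he => (mem_sqOne (c.comm_of_two hp)).2
    ⟨mem_sup_left he, ((mem_sqOne (c.sylow_comm S)).1 he).2⟩
  show s ∈ sqOne (S : Subgroup G)
  rw [← c.eq_sqOne S (c.elemAb_of_sq hp) hle]
  exact (mem_sqOne (c.comm_of_two hp)).2 ⟨mem_sup_right (mem_zpowers s), hs⟩

theorem exists_conj_mem {t : G} (ht : orderOf t = 2) :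
    ∃ g : G, g * t * g⁻¹ ∈ sqOne (S : Subgroup G) := by
  haveI : Fact (Nat.Prime 2) := ⟨Nat.prime_two⟩
  obtain ⟨T, hT⟩ := (IsPGroup.of_card (p := 2) (n := 1)
    (show Nat.card (zpowers t) = 2 ^ 1 by rw [Nat.card_zpowers, ht, pow_one])).exists_le_sylow
  obtain ⟨g, hg⟩ := MulAction.exists_smul_eq G T S
  refine ⟨g, (mem_sqOne (c.sylow_comm S)).2 ⟨?_, ?_⟩⟩
  · rw [← hg]
    exact (smul_mem_pointwise_smul t _ _ (hT (mem_zpowers t)) :
      MulAut.conj g • t ∈ MulAut.conj g • (T : Subgroup G))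
  · rw [conj_mul, ← pow_two, ← ht, pow_orderOf_eq_one, mul_one, mul_inv_cancel]

theorem orderOf_mem {e : G} (he : e ∈ sqOne (S : Subgroup G)) (he1 : e ≠ 1) : orderOf e = 2 :=
  orderOf_eq_prime (by rw [pow_two]; exact ((mem_sqOne (c.sylow_comm S)).1 he).2) he1

theorem sylow_le_normalizer_sqOne :
    (S : Subgroup G) ≤ normalizer ((sqOne (S : Subgroup G) : Subgroup G) : Set G) :=
  le_normalizer.trans (normalizer_le_normalizer_sqOne _)

/-- The data given by `exists_embedded`. -/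
structure Emb (M : Subgroup G) : Prop where
  ne_top : M ≠ ⊤
  cent : ∀ a ∈ sqOne (S : Subgroup G), a ≠ 1 → centralizer ({a} : Set G) ≤ M
  norm : normalizer ((sqOne (S : Subgroup G) : Subgroup G) : Set G) ≤ M

variable {M : Subgroup G} (hM : Ctx.Emb S M)
include hM

/-- A proper subgroup containing `Ω₁(S)` lies in `M`. -/
theorem le_M {X : Subgroup G} (hX : X ≠ ⊤) (hE : sqOne (S : Subgroup G) ≤ X) : X ≤ M := by
  haveI : Fact (Nat.Prime 2) := ⟨Nat.prime_two⟩
  haveI := c.proper_solvable_le hX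
  set E := sqOne (S : Subgroup G) with hEdef
  have hEe := c.elemAb_sqOne S
  obtain ⟨T, hT⟩ := ((Signalizer.elemAb_isPGroup hEe).comap_subtype (K := X)).exists_le_sylow
  set T' := (T : Subgroup X).map X.subtype with hT'
  have hT2 : IsPGroup 2 T' := T.2.map _
  have hET : E ≤ T' := fun e he => ⟨⟨e, hE he⟩, hT he, rfl⟩
  have hΩ : sqOne T' = E := c.eq_sqOne S (c.elemAb_of_sq hT2) fun e he =>
    (mem_sqOne (c.comm_of_two hT2)).2 ⟨hET he, ((mem_sqOne (c.sylow_comm S)).1 he).2⟩
  set O := (Cfsg.pPrimeCore 2 X).map X.subtype with hO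
  have hOodd : ¬ 2 ∣ Nat.card O := by
    rw [hO, card_map_of_injective X.subtype_injective]
    exact Cores.not_dvd_card_pPrimeCore
  have hXO : X ≤ normalizer (O : Set G) :=
    le_normalizer.trans (Coprime.normalizer_le_normalizer_map_characteristic _ _)
  have h8 := c.eight_le S
  have hOM : O ≤ M := Signalizer.le_of_forall_centralizer hEe
    (by omega) (hE.trans hXO) hOodd fun a ha ha1 =>
      inf_le_right.trans (hM.cent a ha ha1)
  have hN := (oddCore_abelianSylow T (c.comm_of_two_sub T)).1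
  haveI := hN
  have htop := T.normalizer_sup_eq_top'
    (le_sup_right : (T : Subgroup X) ≤ Cfsg.pPrimeCore 2 X ⊔ (T : Subgroup X))
  have key : (⊤ : Subgroup X) ≤ M.subgroupOf X := by
    rw [← htop]
    have h1 : normalizer ((T : Subgroup X) : Set X) ≤ M.subgroupOf X := by
      intro x hx
      refine hM.norm ?_
      show X.subtype x ∈ normalizer (E : Set G)
      rw [← hΩ]
      exact normalizer_le_normalizer_sqOne _ (le_normalizer_map X.subtype ⟨x, hx, rfl⟩)
    exact sup_le h1 (sup_le (fun o ho => hOM ⟨o, ho, rfl⟩) (le_normalizer.trans h1))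
  exact fun x hx => key (mem_top (⟨x, hx⟩ : X))

theorem sylow_le : (S : Subgroup G) ≤ M := (c.sylow_le_normalizer_sqOne S).trans hM.norm

theorem sqOne_le_M : sqOne (S : Subgroup G) ≤ M := (sqOne_le _).trans (c.sylow_le S hM)

theorem exists_mem_conj {t : G} (ht : orderOf t = 2) (htM : t ∈ M) :
    ∃ m ∈ M, m * t * m⁻¹ ∈ sqOne (S : Subgroup G) := by
  haveI : Fact (Nat.Prime 2) := ⟨Nat.prime_two⟩
  let SM : Sylow 2 M := S.subtype (c.sylow_le S hM)
  obtain ⟨T, hT⟩ := (IsPGroup.of_card (p := 2) (n := 1) (show Nat.card (zpowers (⟨t, htM⟩ : M)) = 2 ^ 1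
    by rw [Nat.card_zpowers, ← orderOf_coe, pow_one]; exact ht)).exists_le_sylow
  obtain ⟨m, hm⟩ := MulAction.exists_smul_eq M T SM
  refine ⟨m, m.2, (mem_sqOne (c.sylow_comm S)).2 ⟨?_, ?_⟩⟩
  · have h : MulAut.conj m • (⟨t, htM⟩ : M) ∈ MulAut.conj m • (T : Subgroup M) :=
      smul_mem_pointwise_smul _ _ _ (hT (mem_zpowers _))
    have h2 : MulAut.conj m • (T : Subgroup M) = (SM : Subgroup M) := by rw [← hm]; rfl
    rw [h2] at h
    exact h
  · rw [conj_mul, ← pow_two, ← ht, pow_orderOf_eq_one, mul_one, mul_inv_cancel]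

/-- `M` controls fusion of involutions of `Ω₁(S)`. -/
theorem conj_in_M {e g : G} (he : e ∈ sqOne (S : Subgroup G)) (he1 : e ≠ 1)
    (hge : g * e * g⁻¹ ∈ sqOne (S : Subgroup G)) :
    g ∈ M ∧ ∃ n ∈ normalizer ((sqOne (S : Subgroup G) : Subgroup G) : Set G),
      n * e * n⁻¹ = g * e * g⁻¹ := by
  haveI : Fact (Nat.Prime 2) := ⟨Nat.prime_two⟩
  haveI := c.sylow_comm S
  obtain ⟨n, hn, hne⟩ := S.conj_eq_normalizer_conj_of_mem e g⁻¹ (sqOne_le _ he)
    (by rw [inv_inv]; exact sqOne_le _ hge)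
  rw [inv_inv] at hne
  refine ⟨?_, n⁻¹, normalizer_le_normalizer_sqOne _ (inv_mem hn), by rw [inv_inv]; exact hne.symm⟩
  have h : n * g ∈ centralizer ({e} : Set G) := by
    refine mem_centralizer_singleton_iff.2 ?_
    calc n * g * e = n * (g * e * g⁻¹) * g := by group
      _ = n * (n⁻¹ * e * n) * g := by rw [hne]
      _ = e * (n * g) := by group
  have h2 := M.mul_mem (M.inv_mem (hM.norm (normalizer_le_normalizer_sqOne _ hn))) (hM.cent e he he1 h)
  rwa [inv_mul_cancel_left] at h2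

theorem exists_outside : ∃ e ∈ sqOne (S : Subgroup G), e ≠ 1 ∧ ∃ i : G, orderOf i = 2 ∧ i ∉ M := by
  have h8 := c.eight_le S
  obtain ⟨e, he, he1⟩ := Signalizer.exists_ne_one_of_le_card
    (A := sqOne (S : Subgroup G)) (by omega)
  refine ⟨e, he, he1, ?_⟩
  by_contra hno
  push Not at hno
  set N := normalClosure ({e} : Set G) with hN
  have hNM : N ≤ M := by
    rw [hN, normalClosure, closure_le]
    intro x hx
    obtain ⟨a, ha, hax⟩ := Group.mem_conjugatesOfSet_iff.1 hx
    obtain rfl : a = e := ha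
    obtain ⟨g, rfl⟩ := isConj_iff.1 hax
    exact hno _ (by rw [TwoFusion.orderOf_conj']; exact c.orderOf_mem S he he1)
  haveI := c.simple
  rcases IsSimpleGroup.eq_bot_or_eq_top_of_normal N inferInstance with h | h
  · have : e ∈ (⊥ : Subgroup G) := h ▸ subset_normalClosure (Set.mem_singleton e)
    exact he1 this
  · exact hM.ne_top (top_le_iff.1 (h ▸ hNM))

/-- All involutions of `Ω₁(S)` are conjugate under its normaliser. -/
theorem transitive {e f : G} (he : e ∈ sqOne (S : Subgroup G)) (he1 : e ≠ 1)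
    (hf : f ∈ sqOne (S : Subgroup G)) (hf1 : f ≠ 1) :
    ∃ n ∈ normalizer ((sqOne (S : Subgroup G) : Subgroup G) : Set G), n * e * n⁻¹ = f := by
  obtain ⟨-, -, -, i, hi, hiM⟩ := c.exists_outside S hM
  have key : ∀ a ∈ sqOne (S : Subgroup G), a ≠ 1 → ∃ g : G, g * a * g⁻¹ = i := by
    intro a ha ha1
    have ha2 := c.orderOf_mem S ha ha1
    rcases Nat.even_or_odd (orderOf (a * i)) with hev | hodd
    · exfalso
      obtain ⟨x, hx, hxa, hxi⟩ := TwoFusion.exists_involution_commute_of_even ha2 hi hev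
        (orderOf_pos _).ne'
      have hxM : x ∈ M := hM.cent a ha ha1 (mem_centralizer_singleton_iff.2 hxa.eq)
      obtain ⟨m, hm, hmx⟩ := c.exists_mem_conj S hM hx hxM
      have hm1 : m * x * m⁻¹ ≠ 1 := fun h => TwoFusion.involution_ne_one hx (conj_eq_one_iff.1 h)
      have := hM.cent _ hmx hm1 (show m * i * m⁻¹ ∈ _ from mem_centralizer_singleton_iff.2 (by
        rw [conj_mul, conj_mul, hxi.eq]))
      exact hiM (by
        have h2 := M.mul_mem (M.mul_mem (M.inv_mem hm) this) hm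
        rwa [show m⁻¹ * (m * i * m⁻¹) * m = i by group] at h2)
    · obtain ⟨v, -, hv, -⟩ := TwoFusion.exists_involution_conj_of_odd ha2 hi hodd
      exact ⟨v, hv⟩
  obtain ⟨g, hg⟩ := key e he he1
  obtain ⟨k, hk⟩ := key f hf hf1
  have h : (k⁻¹ * g) * e * (k⁻¹ * g)⁻¹ = f := by
    calc _ = k⁻¹ * (g * e * g⁻¹) * k := by group
      _ = f := by rw [hg, ← hk]; group
  obtain ⟨-, n, hn, hne⟩ := c.conj_in_M S hM he he1 (g := k⁻¹ * g) (by rw [h]; exact hf)
  exact ⟨n, hn, hne.trans h⟩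

/-- The action of the normaliser on `Ω₁(S)` is a `p`-group. -/
theorem isPGroup_range :
    IsPGroup p ↥((sqOne (S : Subgroup G)).normalizerMonoidHom.range) := by
  set E := sqOne (S : Subgroup G) with hE
  rintro ⟨_, g, rfl⟩
  obtain ⟨u, v, huv, hu, ⟨k, hk⟩, huz, hvz⟩ := exists_parts (p := p) Fact.out (g : G)
  have huN := (zpowers_le.2 g.2) huz
  have hvN := (zpowers_le.2 g.2) hvz
  refine ⟨k, Subtype.ext ?_⟩
  rw [SubmonoidClass.coe_pow, OneMemClass.coe_one]
  have h1 : g = (⟨u, huN⟩ : normalizer (E : Set G)) * ⟨v, hvN⟩ := Subtype.ext huv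
  have h2 : E.normalizerMonoidHom ⟨u, huN⟩ = 1 := by
    refine MulEquiv.ext fun e => Subtype.ext ?_
    show u * (e : G) * u⁻¹ = e
    rw [(c.commute_of_coprime (Signalizer.elemAb_isPGroup (c.elemAb_sqOne S)) huN hu e.2).eq,
      mul_inv_cancel_right]
  show E.normalizerMonoidHom g ^ p ^ k = 1
  rw [h1, map_mul, h2, one_mul, ← map_pow]
  rw [show (⟨v, hvN⟩ : normalizer (E : Set G)) ^ p ^ k = 1 from Subtype.ext hk, map_one]

theorem card_sqOne : Nat.card (sqOne (S : Subgroup G)) = p + 1 := by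
  haveI : Fact (Nat.Prime 2) := ⟨Nat.prime_two⟩
  set E := sqOne (S : Subgroup G) with hE
  have h8 := c.eight_le S
  rw [← hE] at h8
  obtain ⟨e, he, he1⟩ := Signalizer.exists_ne_one_of_le_card (A := E) (by omega)
  set R := E.normalizerMonoidHom.range
  have horb : MulAction.orbit R (⟨e, he⟩ : E) = {x : E | x ≠ 1} := by
    ext x
    constructor
    · rintro ⟨σ, rfl⟩
      intro h
      have := (σ : MulAut E).injective (h.trans (map_one (σ : MulAut E)).symm)
      exact he1 (congrArg Subtype.val this)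
    · intro hx
      obtain ⟨n, hn, hne⟩ := c.transitive S hM he he1 x.2 (fun h => hx (Subtype.ext h))
      exact ⟨⟨E.normalizerMonoidHom ⟨n, hn⟩, ⟨_, rfl⟩⟩, Subtype.ext hne⟩
  obtain ⟨a, ha⟩ := (c.isPGroup_range S hM).card_orbit (⟨e, he⟩ : E)
  rw [horb] at ha
  have h1 : Nat.card {x : E | x ≠ 1} + 1 = Nat.card E := by
    have := Set.ncard_add_ncard_compl ({1} : Set E)
    rw [Set.ncard_singleton] at this
    rw [Nat.card_coe_set_eq]
    have h2 : {x : E | x ≠ 1} = ({1} : Set E)ᶜ := rfl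
    rw [h2]; omega
  obtain ⟨n, hn⟩ := IsPGroup.iff_card.1 (Signalizer.elemAb_isPGroup (c.elemAb_sqOne S))
  rw [← hE] at hn
  rw [ha, hn] at h1
  have hn2 : 2 ≤ n := by
    by_contra h
    push Not at h
    have := Nat.pow_le_pow_right (show 1 ≤ 2 by norm_num) (show n ≤ 1 by omega)
    omega
  have hp2 : p ≠ 2 := by have := c.five; omega
  have := two_pow_eq (Fact.out) hp2 hn2 h1
  rw [hn, ← h1, this, pow_one]

/-- An element of `N(E)` fixing one involution of `E` centralises `E`. -/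
theorem fix_all {g e : G} (hg : g ∈ normalizer ((sqOne (S : Subgroup G) : Subgroup G) : Set G))
    (he : e ∈ sqOne (S : Subgroup G)) (he1 : e ≠ 1) (hge : g * e * g⁻¹ = e) :
    g ∈ centralizer ((sqOne (S : Subgroup G) : Subgroup G) : Set G) := by
  haveI : Fact (Nat.Prime 2) := ⟨Nat.prime_two⟩
  set E := sqOne (S : Subgroup G) with hE
  set σ : E.normalizerMonoidHom.range := ⟨E.normalizerMonoidHom ⟨g, hg⟩, ⟨_, rfl⟩⟩ with hσ
  have hp := (c.isPGroup_range S hM).to_subgroup (zpowers σ)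
  let F : Subgroup E :=
    { carrier := {x | (σ : MulAut E) x = x}
      one_mem' := map_one _
      mul_mem' := fun {a b} (ha : _ = a) (hb : _ = b) => show _ = a * b by rw [map_mul, ha, hb]
      inv_mem' := fun {a} (ha : _ = a) => show _ = a⁻¹ by rw [map_inv, ha] }
  have hfix : MulAction.fixedPoints (zpowers σ) E = (F : Set E) := by
    ext x
    constructor
    · intro h; exact h ⟨σ, mem_zpowers σ⟩
    · intro h τ
      have hmem : σ ∈ MulAction.stabilizer E.normalizerMonoidHom.range x := h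
      exact (zpowers_le.2 hmem) τ.2
  have hmod := hp.card_modEq_card_fixedPoints E
  rw [hfix] at hmod
  obtain ⟨j, hj⟩ := IsPGroup.iff_card.1
    ((Signalizer.elemAb_isPGroup (c.elemAb_sqOne S)).to_subgroup F)
  have hFE : Nat.card F ∣ Nat.card E := card_subgroup_dvd_card F
  have hle : Nat.card F ≤ Nat.card E := card_le_card_group F
  have hF2 : 2 ≤ Nat.card F := by
    have h1 : (⟨e, he⟩ : E) ∈ F := Subtype.ext hge
    refine Nat.succ_le_of_lt ((one_lt_card_iff_ne_bot F).2 fun h => ?_)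
    rw [h, mem_bot] at h1
    exact he1 (congrArg Subtype.val h1)
  have hcard := c.card_sqOne S hM
  rw [← hE] at hcard
  change Nat.card E ≡ Nat.card F [MOD p] at hmod
  have h1 : (Nat.card F : ℤ) ≡ 1 [ZMOD p] := by
    have h2 := (Int.natCast_modEq_iff.2 hmod).symm
    refine h2.trans ?_
    rw [hcard]
    push_cast
    simp [Int.modEq_iff_dvd]
  rw [Int.modEq_iff_dvd] at h1
  have h3 : Nat.card F = Nat.card E := by
    obtain ⟨d, hd⟩ := h1
    have hd1 : d < 0 := by
      by_contra h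
      push Not at h
      have : (0 : ℤ) ≤ (p : ℤ) * d := mul_nonneg (by positivity) h
      omega
    have hd2 : -1 ≤ d := by
      by_contra h
      push Not at h
      have : (p : ℤ) * d ≤ (p : ℤ) * (-2) := mul_le_mul_of_nonneg_left (by omega) (by positivity)
      omega
    have : d = -1 := by omega
    subst this
    omega
  have hFtop : F = ⊤ := eq_top_of_card_eq F h3
  refine mem_centralizer_iff.2 fun x hx => ?_
  have h4 : (⟨x, hx⟩ : E) ∈ F := hFtop ▸ mem_top _
  have h5 : g * x * g⁻¹ = x := congrArg Subtype.val (h4 : (σ : MulAut E) ⟨x, hx⟩ = ⟨x, hx⟩)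
  calc x * g = g * x * g⁻¹ * g := by rw [h5]
    _ = g * x := by group

end Ctx

end Cfsg.Agent.PPrimeAbelian
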