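import Cfsg.Agent.PPrimeAbelian.Basic
import Cfsg.Agent.H4.ZJFusion
import Cfsg.Agent.Signalizer.Functor

/-!
`SL(2, p)` has a non-abelian subgroup of order prime to `p`, so it is no section of a group whose
subgroups of order prime to `p` are abelian.
-/

set_option autoImplicit false
set_option linter.style.haveILetI false

namespace Cfsg.Agent.PPrimeAbelian

open Subgroup Matrix
open scoped MatrixGroups

variable {p : ℕ} [Fact p.Prime]

theorem not_hyp_sl (hp : 5 ≤ p) : ¬ Hyp p (Matrix.SpecialLinearGroup (Fin 2) (ZMod p)) := by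
  intro h
  have h20 : (2 : ZMod p) ≠ 0 := by
    intro h0
    have h1 : ((2 : ℕ) : ZMod p) = 0 := by exact_mod_cast h0
    have := Nat.le_of_dvd (by norm_num) ((ZMod.natCast_eq_zero_iff 2 p).1 h1)
    omega
  have h4 : (2 : ZMod p) * 2 ≠ 1 := by
    intro h0
    have h1 : ((3 : ℕ) : ZMod p) = 0 := by
      have : (2 : ZMod p) * 2 - 1 = 0 := sub_eq_zero.2 h0
      push_cast
      linear_combination this
    have := Nat.le_of_dvd (by norm_num) ((ZMod.natCast_eq_zero_iff 3 p).1 h1)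
    omega
  let D : (ZMod p)ˣ → Matrix.SpecialLinearGroup (Fin 2) (ZMod p) := fun a =>
    ⟨!![(a : ZMod p), 0; 0, ((a⁻¹ : (ZMod p)ˣ) : ZMod p)], by
      rw [Matrix.det_fin_two_of]; simp only [mul_zero, sub_zero]; exact a.mul_inv⟩
  let w : Matrix.SpecialLinearGroup (Fin 2) (ZMod p) := ⟨!![0, 1; -1, 0], by simp [Matrix.det_fin_two]⟩
  let Dh : (ZMod p)ˣ →* Matrix.SpecialLinearGroup (Fin 2) (ZMod p) :=
    MonoidHom.mk' D fun a b => by
      refine Subtype.ext ?_
      rw [Matrix.SpecialLinearGroup.coe_mul]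
      show !![((a * b : (ZMod p)ˣ) : ZMod p), 0; 0, (((a * b)⁻¹ : (ZMod p)ˣ) : ZMod p)] = _
      rw [Matrix.mul_fin_two, mul_inv]
      simp only [mul_zero, zero_mul, add_zero, zero_add, Units.val_mul]
  have hw : w ∈ normalizer (Dh.range : Set _) := by
    refine mem_normalizer_iff.2 fun x => ?_
    have key : ∀ a : (ZMod p)ˣ, w * Dh a * w⁻¹ = Dh a⁻¹ := by
      intro a
      rw [mul_inv_eq_iff_eq_mul]
      refine Subtype.ext ?_
      rw [Matrix.SpecialLinearGroup.coe_mul, Matrix.SpecialLinearGroup.coe_mul]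
      show !![(0 : ZMod p), 1; -1, 0] * !![(a : ZMod p), 0; 0, ((a⁻¹ : (ZMod p)ˣ) : ZMod p)] =
        !![((a⁻¹ : (ZMod p)ˣ) : ZMod p), 0; 0, (((a⁻¹)⁻¹ : (ZMod p)ˣ) : ZMod p)] * !![0, 1; -1, 0]
      rw [Matrix.mul_fin_two, Matrix.mul_fin_two, inv_inv]
      simp only [mul_zero, zero_mul, add_zero, zero_add, mul_one, one_mul, neg_mul, mul_neg, neg_zero]
    constructor
    · rintro ⟨a, rfl⟩
      exact ⟨a⁻¹, (key a).symm⟩
    · rintro ⟨a, ha⟩
      refine ⟨a⁻¹, ?_⟩
      have := key a⁻¹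
      rw [inv_inv, ha] at this
      exact mul_left_cancel (mul_right_cancel this)
  have hcop : (Nat.card ↥(Dh.range ⊔ zpowers w)).Coprime p := by
    refine Nat.Coprime.coprime_dvd_left (Signalizer.card_sup_dvd (zpowers_le.2 hw)) ?_
    refine Nat.Coprime.mul_left ?_ ?_
    · refine Nat.Coprime.coprime_dvd_left (card_range_dvd Dh) ?_
      rw [Nat.card_eq_fintype_card, ZMod.card_units]
      refine ((Fact.out : p.Prime).coprime_iff_not_dvd.2 fun hd => ?_).symm
      have := Nat.le_of_dvd (by omega) hd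
      omega
    · refine Nat.Coprime.coprime_dvd_left (show Nat.card (zpowers w) ∣ 2 ^ 2 from ?_) ?_
      · rw [Nat.card_zpowers]
        refine orderOf_dvd_of_pow_eq_one ?_
        refine Subtype.ext ?_
        rw [Matrix.SpecialLinearGroup.coe_pow, Matrix.SpecialLinearGroup.coe_one]
        show (!![(0 : ZMod p), 1; -1, 0]) ^ 4 = 1
        rw [pow_succ, pow_succ, pow_succ, pow_one, Matrix.mul_fin_two, Matrix.mul_fin_two,
          Matrix.mul_fin_two, Matrix.one_fin_two]
        simp only [mul_zero, zero_mul, add_zero, zero_add, mul_one, one_mul, neg_mul, mul_neg, neg_neg, neg_zero]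
      · exact Nat.Coprime.pow_left _ ((Nat.coprime_primes Nat.prime_two Fact.out).2 (by omega))
  have hc := h.commute hcop (x := Dh (Units.mk0 2 h20)) (y := w)
    (mem_sup_left ⟨_, rfl⟩) (mem_sup_right (mem_zpowers w))
  have := congrArg (fun m : Matrix.SpecialLinearGroup (Fin 2) (ZMod p) => m.1 0 1) hc.eq
  simp only [Matrix.SpecialLinearGroup.coe_mul] at this
  change (!![((Units.mk0 2 h20 : (ZMod p)ˣ) : ZMod p), 0; 0, (((Units.mk0 2 h20)⁻¹ : (ZMod p)ˣ) : ZMod p)] *
      !![(0 : ZMod p), 1; -1, 0]) 0 1 =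
    (!![(0 : ZMod p), 1; -1, 0] *
      !![((Units.mk0 2 h20 : (ZMod p)ˣ) : ZMod p), 0; 0, (((Units.mk0 2 h20)⁻¹ : (ZMod p)ˣ) : ZMod p)]) 0 1 at this
  rw [Matrix.mul_fin_two, Matrix.mul_fin_two] at this
  simp only [mul_one, mul_zero, one_mul, zero_add, add_zero, zero_mul, Matrix.of_apply,
    Matrix.cons_val_zero, Matrix.cons_val_one, Units.val_mk0] at this
  have h5 := (Units.mk0 2 h20).mul_inv
  rw [Units.val_mk0, ← this] at h5
  exact h4 h5

theorem sl2Free_of_hyp {G : Type*} [Group G] [Finite G] (hp : 5 ≤ p) (h : Hyp p G) :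
    H4.SL2Free p G := by
  rintro ⟨H, K, hK, ⟨e⟩⟩
  have h1 : Hyp p (H ⧸ K.subgroupOf H) := (h.subgroup H).quotient _
  refine not_hyp_sl hp fun L hL => ?_
  have hc : Nat.card (L.map e.symm.toMonoidHom) = Nat.card L :=
    card_map_of_injective e.symm.injective
  obtain ⟨hab, he⟩ := h1 (L.map e.symm.toMonoidHom) (hc ▸ hL)
  refine ⟨⟨⟨fun a b => Subtype.ext (e.symm.injective ?_)⟩⟩, fun x hx => e.symm.injective ?_⟩
  · rw [coe_mul, coe_mul, map_mul, map_mul]
    exact congrArg Subtype.val (hab.is_comm.comm ⟨_, mem_map_of_mem e.symm.toMonoidHom a.2⟩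
      ⟨_, mem_map_of_mem e.symm.toMonoidHom b.2⟩)
  · rw [map_pow, map_one]
    exact he _ (mem_map_of_mem e.symm.toMonoidHom hx)

end Cfsg.Agent.PPrimeAbelian
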